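import Cfsg.Agent.H0.TC
set_option maxRecDepth 100000
namespace H0.TCS440
open H0
noncomputable def r0 : TC.WTr := (.node (.node (.node (.node (.node (.node (.leaf [0] 0 0 false) (.leaf [9, 9, 7, 8, 6, 9] 17 6 false)) (.leaf [11, 5, 11, 5, 11] 33 1 true)) (.node (.leaf [1] 1 1 false) (.leaf [3, 8, 3] 28 1 false))) (.node (.node (.leaf [1, 4, 0, 1, 0, 3] 60 1 true) (.leaf [7] 6 0 false)) (.node (.leaf [8, 7, 2, 3, 11, 2, 10] 55 1 true) (.leaf [0, 8, 8, 6, 0, 6, 10] 50 2 true)))) (.node (.node (.node (.node (.leaf [9, 7, 0, 5, 8, 5, 7] 48 4 true) (.leaf [4, 3, 1, 0, 5, 1, 7, 3] 54 6 false)) (.leaf [4, 8, 11, 7, 3, 5] 32 5 true)) (.node (.leaf [1, 9, 1, 3, 2, 9, 4, 7] 57 8 false) (.leaf [5, 0, 10, 4, 9, 10, 0, 5] 56 6 true))) (.node (.node (.leaf [7, 2, 7] 44 0 false) (.leaf [0, 7, 9, 9, 0, 8, 10] 50 7 false)) (.node (.leaf [8, 4, 0, 10, 8, 5, 10, 0] 56 1 false) (.leaf [4, 8, 7,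 2, 3, 11, 2] 55 0 true))))) (.node (.node (.node (.node (.node (.leaf [5, 2, 2, 3, 0, 2] 60 2 false) (.leaf [4, 11, 4, 11, 4] 33 1 false)) (.leaf [4] 4 1 false)) (.node (.leaf [11, 3, 9, 11, 8] 29 0 false) (.leaf [6, 8, 10, 7, 8] 16 3 true))) (.node (.node (.leaf [9, 1, 3, 2, 9, 4, 7, 3] 57 0 false) (.leaf [8, 11, 10, 6, 11] 22 2 false)) (.node (.leaf [3, 4, 3, 5, 3, 6, 4] 24 2 true) (.leaf [2, 0, 11, 6, 9, 7, 0, 1] 58 2 false)))) (.node (.node (.node (.leaf [6, 1, 6] 44 1 true) (.leaf [9, 0, 8, 7, 9, 0, 8] 51 6 false)) (.node (.leaf [3] 3 0 false) (.leaf [6, 10, 9, 7, 9] 16 3 false))) (.node (.node (.leaf [10, 4, 8, 7, 2, 3, 11] 55 7 true) (.leaf [9] 8 0 false)) (.node (.leaf [3, 5, 5, 7, 3, 4, 3] 24 3 false) (.leaf [11, 9, 6, 11, 7] 22 0 true))))))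
noncomputable def r1 : TC.WTr := (.node (.node (.node (.node (.node (.node (.leaf [3, 0, 3] 45 0 false) (.leaf [9, 6, 11, 7, 10] 22 1 true)) (.leaf [4] 4 1 false)) (.node (.leaf [1] 1 1 false) (.leaf [0, 4, 2, 7, 5, 0, 3, 10] 61 2 true))) (.node (.node (.leaf [11, 3, 1, 6, 9, 5, 10] 55 0 false) (.leaf [9, 0, 8, 6, 9, 0, 8] 51 2 false)) (.node (.leaf [7, 8, 4, 4, 10, 6, 8] 37 0 false) (.leaf [8] 8 1 false)))) (.node (.node (.node (.leaf [0] 0 0 false) (.leaf [10, 11, 8, 7, 11] 21 5 true)) (.node (.leaf [4, 6, 10, 7, 5, 3, 10] 39 3 false) (.leaf [3, 9, 3] 28 0 true))) (.node (.node (.leaf [11, 1, 5, 11, 4] 46 0 false) (.leaf [3, 4, 3, 5, 3, 5, 5] 24 7 false)) (.node (.leaf [10, 0, 4, 8, 4, 0, 10, 8] 56 7 false) (.leaf [6, 8, 4, 7, 8, 4, 4] 37 5 false))))) (.node (.node (.node (.node (.node (.leaf [1, 10, 2, 0, 6, 8, 7, 11] 58 4 true) (.leaf [10, 7, 11, 6, 9] 21 4 false)) (.leaf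 [6, 6] 14 0 false)) (.node (.leaf [4, 3, 5, 3, 5, 5, 7] 24 0 false) (.leaf [8, 10, 4, 6, 2, 5, 3, 2] 53 4 false))) (.node (.node (.leaf [0, 3, 1, 1, 4, 0] 60 5 true) (.leaf [3, 1, 9, 1, 3, 2, 9, 4] 57 7 false)) (.node (.leaf [11, 4, 11, 4, 11] 33 0 false) (.leaf [11, 10, 11] 12 0 false)))) (.node (.node (.node (.leaf [0, 5, 1, 7, 3, 11, 4, 3] 54 0 false) (.leaf [7] 6 0 false)) (.node (.leaf [5] 4 0 false) (.leaf [11, 9, 9, 7, 8, 6] 17 5 false))) (.node (.node (.leaf [3, 6, 5, 8, 1, 3, 2, 8] 57 8 true) (.leaf [10, 4, 0, 2, 6, 2, 4] 49 1 true)) (.node (.leaf [11, 3, 6, 2, 4, 0, 2, 3] 54 1 true) (.leaf [10] 10 0 false))))))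
noncomputable def r2 : TC.WTr := (.node (.node (.node (.node (.node (.node (.leaf [9, 10, 3, 0, 4, 6, 1, 5] 61 5 false) (.leaf [10, 11, 10] 12 1 false)) (.leaf [9, 11, 8, 4, 6, 11, 7] 36 0 false)) (.node (.leaf [1] 1 1 false) (.leaf [7, 8, 4, 8, 7, 8, 4] 38 0 true))) (.node (.node (.leaf [3, 4, 1, 7, 5, 10, 9, 9] 53 5 true) (.leaf [2, 7, 2] 44 1 false)) (.node (.leaf [0, 1, 0, 3, 1, 1] 60 3 true) (.leaf [4, 7, 3, 1, 9, 1, 3, 2] 57 5 false)))) (.node (.node (.node (.node (.leaf [4, 2, 7, 5, 0, 3, 10, 8] 61 3 true) (.leaf [11] 11 0 false)) (.leaf [11, 9, 5, 7, 4, 3] 32 4 false)) (.node (.leaf [9, 11, 8, 3, 11] 29 2 false) (.leaf [11, 10, 7, 11, 6] 21 3 false))) (.node (.node (.leaf [2, 2, 2, 2] 40 0 true) (.leaf [5, 5, 7, 5, 5] 31 0 true)) (.node (.leaf [5] 4 0 false) (.leaf [7, 5, 3, 10, 3, 4, 6] 39 6 false))))) (.node (.node (.node (.node (.node (.leaf [1, 10, 2, 0, 11, 6, 9,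 7] 58 0 false) (.leaf [8, 3, 11, 3, 9] 29 4 false)) (.leaf [7] 6 0 false)) (.node (.leaf [7, 5, 10, 11, 1, 5, 1, 6, 0] 59 0 true) (.leaf [5, 10, 0, 4, 8, 4, 0, 10] 56 6 false))) (.node (.node (.leaf [7, 3, 11, 4, 3, 1, 0, 5] 54 3 false) (.leaf [8, 8, 6, 8, 10] 16 1 true)) (.node (.leaf [2, 10, 1, 5, 10] 47 5 false) (.leaf [9, 7, 9, 9, 6] 16 5 false)))) (.node (.node (.node (.leaf [6, 0, 3, 7, 5, 10, 11, 1, 5] 59 7 true) (.leaf [8, 0, 6, 4, 9, 4, 0] 48 1 false)) (.node (.leaf [3] 3 0 false) (.leaf [9, 0, 8, 10, 7, 0, 7] 50 2 false))) (.node (.node (.leaf [3, 0, 1, 0, 2, 2, 0, 1, 1, 0] 41 9 false) (.leaf [6, 0, 6, 10, 9, 0, 8] 50 5 true)) (.node (.leaf [5, 5, 5, 5, 5] 23 0 true) (.leaf [10] 10 0 false))))))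
noncomputable def r3 : TC.WTr := (.node (.node (.node (.node (.node (.node (.leaf [2, 0, 5, 2, 2, 3] 60 0 false) (.leaf [8, 7, 11, 6, 10] 21 1 true)) (.leaf [4] 4 1 false)) (.node (.leaf [0, 3, 0] 45 1 false) (.leaf [10, 7, 0, 7, 9, 9, 0] 50 5 false))) (.node (.node (.leaf [6, 9, 5, 10, 1, 11, 3] 55 3 false) (.leaf [11, 6, 10, 11, 8] 21 3 true)) (.node (.leaf [10, 6, 8, 4, 7, 8, 4] 37 4 false) (.leaf [10] 10 0 false)))) (.node (.node (.node (.leaf [0] 0 0 false) (.leaf [10, 7, 0, 1, 11, 2, 0] 52 5 false)) (.node (.leaf [3] 3 0 false) (.leaf [7, 4, 9, 7, 4] 30 1 false))) (.node (.node (.leaf [9, 4, 7, 3, 1, 9, 1, 3] 57 4 false) (.leaf [6] 6 1 false)) (.node (.leaf [6, 4, 8, 11, 7, 3] 32 4 true) (.leaf [4, 0, 2, 6, 2, 4, 8] 49 2 true))))) (.node (.node (.node (.node (.node (.leaf [5, 8, 5, 7, 0, 9, 7] 48 7 true) (.leaf [2, 10, 4, 8, 7, 2, 3] 55 6 true)) (.leaf [5, 8, 1, 3, 2,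 8, 2, 3] 57 1 true)) (.node (.leaf [11, 2, 10, 4, 8, 7, 2] 55 5 true) (.leaf [9] 8 0 false))) (.node (.node (.leaf [1] 1 1 false) (.leaf [5, 10, 11, 1, 5, 1, 6, 0, 3] 59 1 true)) (.node (.leaf [7, 3, 1, 9, 1, 3, 2, 9] 57 6 false) (.leaf [7, 8, 8, 6, 8] 16 0 true)))) (.node (.node (.node (.leaf [11, 2, 0, 6, 10, 7, 0] 52 1 false) (.leaf [7] 6 0 false)) (.node (.leaf [6, 4, 4, 6, 4] 31 1 false) (.leaf [11, 8, 3, 11, 3] 29 3 false))) (.node (.node (.leaf [1] 1 1 false) (.leaf [6, 9, 11, 9, 9, 7] 17 3 false)) (.node (.leaf [8, 5, 7, 0, 9, 7, 0] 48 0 true) (.leaf [1, 5, 11, 4, 2] 46 1 false))))))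
noncomputable def r4 : TC.WTr := (.node (.node (.node (.node (.node (.node (.leaf [3, 1, 1, 4, 0, 1] 60 6 true) (.leaf [7, 8, 11, 10, 6] 22 1 false)) (.leaf [0, 10, 4, 9, 10, 0, 5, 9] 56 7 true)) (.node (.leaf [1] 1 1 false) (.leaf [8, 8, 8, 8] 15 0 false))) (.node (.node (.leaf [0, 5, 10, 9, 5, 1, 7] 49 2 false) (.leaf [6] 6 1 false)) (.node (.leaf [11, 10, 7, 5, 10, 4, 3] 34 4 false) (.leaf [7, 0, 5, 8, 5, 7, 0] 48 5 true)))) (.node (.node (.node (.node (.leaf [7, 9, 9, 0, 8, 10, 7] 50 0 false) (.leaf [7, 3, 5, 6, 4, 8] 32 1 true)) (.leaf [9, 11, 10, 7, 11] 21 2 false)) (.node (.leaf [5, 3, 6, 4, 4, 3, 4] 24 5 true) (.leaf [6, 11, 7, 10, 11] 22 2 true))) (.node (.node (.leaf [0, 11, 6, 9, 7, 0, 1, 10] 58 3 false) (.leaf [1, 0, 5, 10, 9, 5, 1] 49 1 false)) (.node (.leaf [8, 6, 11, 4, 9, 3, 8] 35 4 false) (.leaf [3, 4, 6, 10, 7, 5, 3] 39 2 false))))) (.node (.node (.node (.node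 (.node (.leaf [2, 0, 1, 0, 2, 0, 1] 43 2 false) (.leaf [3, 9, 11, 8, 3] 29 1 false)) (.leaf [4] 4 1 false)) (.node (.leaf [1, 6, 9, 5, 10, 1, 11] 55 2 false) (.leaf [8, 6, 8, 10, 7] 16 2 true))) (.node (.node (.leaf [10, 2, 0, 11, 6, 9, 7, 0] 58 1 false) (.leaf [5, 0, 3, 10, 8, 0, 4, 2] 61 6 true)) (.node (.leaf [0, 6, 8, 0, 6, 4, 9] 48 7 false) (.leaf [7, 0, 7, 9, 9, 0, 8] 50 6 false)))) (.node (.node (.node (.leaf [1, 1, 1, 1] 40 0 false) (.leaf [5, 9, 7, 10, 5, 5, 9] 37 6 true)) (.node (.leaf [3] 3 0 false) (.leaf [1, 3, 2, 9, 4, 7, 3, 1] 57 1 false))) (.node (.node (.leaf [6, 2, 4, 8, 10, 4, 0] 49 5 true) (.leaf [0, 6, 4, 9, 4, 0, 6] 48 2 false)) (.node (.leaf [0, 9, 10, 3, 0, 4, 6, 1] 61 4 false) (.leaf [8, 5, 10, 0, 4, 8, 4, 0] 56 5 false))))))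
noncomputable def r5 : TC.WTr := (.node (.node (.node (.node (.node (.node (.leaf [2, 2, 0, 1, 1, 0, 1, 4, 0, 1, 1] 42 4 true) (.leaf [6, 9, 11, 10, 7] 21 1 false)) (.leaf [4] 4 1 false)) (.node (.leaf [3] 3 0 false) (.leaf [11, 7, 3, 5, 6, 4] 32 0 true))) (.node (.node (.leaf [1, 0, 2, 3, 0, 1, 0, 2, 2, 0] 41 6 false) (.leaf [11, 6, 9, 11, 10] 21 0 false)) (.node (.leaf [3, 4, 11, 10, 7, 5, 10] 34 2 false) (.leaf [8] 8 1 false)))) (.node (.node (.node (.leaf [0] 0 0 false) (.leaf [8, 5, 6, 8, 5] 30 0 true)) (.node (.leaf [3] 3 0 false) (.leaf [5, 1, 7, 1, 0, 5, 10] 49 6 false))) (.node (.node (.leaf [4, 2, 11, 10, 4, 6, 3, 0, 7] 59 2 false) (.leaf [9, 6, 8, 8, 11, 8] 17 2 true)) (.node (.leaf [1, 7, 3, 11, 4, 3, 1, 0] 54 2 false) (.leaf [3, 0, 4, 6, 1, 5, 0, 9] 61 7 false))))) (.node (.node (.node (.node (.node (.leaf [10, 8, 5, 10, 0, 4, 8, 4] 56 4 false) (.leaf [8, 4, 6,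 11, 7, 5, 9] 36 2 false)) (.leaf [1, 6, 1] 44 0 true)) (.node (.leaf [9, 3, 9] 28 1 true) (.leaf [10, 7, 8, 8, 6] 16 5 true))) (.node (.node (.leaf [3, 2, 8, 2, 3, 6, 5, 8] 57 4 true) (.leaf [5, 10, 9, 9, 1, 3, 4, 1] 53 0 true)) (.node (.leaf [9, 7, 4, 9, 7] 30 0 false) (.leaf [6, 11, 7, 8, 11] 22 5 false)))) (.node (.node (.node (.leaf [5, 10, 4, 2, 10] 47 2 false) (.leaf [7] 6 0 false)) (.node (.leaf [1, 7, 5, 10, 9, 9, 1, 3] 53 7 true) (.leaf [9, 9, 9, 9] 15 0 true))) (.node (.node (.leaf [1] 1 1 false) (.leaf [11, 10, 6, 11, 7] 22 3 false)) (.node (.leaf [6, 8, 5, 6, 8] 30 2 true) (.leaf [11] 11 0 false))))))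
noncomputable def r6 : TC.WTr := (.node (.node (.node (.node (.node (.node (.leaf [8, 10, 7, 0, 7, 9, 9] 50 4 false) (.leaf [4, 2, 11, 1, 5] 46 4 false)) (.leaf [5, 9, 6, 5, 9, 7, 10] 37 3 true)) (.node (.leaf [1] 1 1 false) (.leaf [5, 3, 4, 3, 4, 4, 4] 25 0 true))) (.node (.node (.leaf [7, 5, 10, 9, 9, 1, 3, 4] 53 8 true) (.leaf [7, 7] 14 0 true)) (.node (.leaf [4, 4, 4, 4, 4] 23 0 false) (.leaf [8] 8 1 false)))) (.node (.node (.node (.node (.leaf [0] 0 0 false) (.leaf [11] 11 0 false)) (.leaf [4, 4, 3, 4, 3, 5, 3] 24 0 true)) (.node (.leaf [5, 6, 4, 8, 11, 7] 32 3 true) (.leaf [4, 0, 6, 8, 0, 6, 4] 48 6 false))) (.node (.node (.leaf [4, 8, 10, 4, 0, 2, 6] 49 7 true) (.leaf [9, 9, 0, 8, 10, 7, 0] 50 1 false)) (.node (.leaf [4] 4 1 false) (.leaf [5, 5, 9, 6, 5, 9, 7] 37 2 true))))) (.node (.node (.node (.node (.node (.leaf [1, 0, 2, 0, 1, 0, 2] 43 0 false) (.leaf [5, 11, 5,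 11, 5] 33 0 true)) (.leaf [2, 4, 8, 10, 4, 0, 2] 49 6 true)) (.node (.leaf [0, 2, 0, 5, 2, 2] 60 6 false) (.leaf [8, 6, 0, 6, 10, 9, 0] 50 4 true))) (.node (.node (.leaf [7, 1, 0, 5, 10, 9, 5] 49 0 false) (.leaf [4, 3, 6, 11, 9, 5] 32 1 false)) (.node (.leaf [0, 2, 6, 2, 4, 8, 10] 49 3 true) (.leaf [4, 2, 10, 1, 5] 47 4 false)))) (.node (.node (.node (.leaf [3, 2, 9, 4, 7, 3, 1, 9] 57 2 false) (.leaf [8, 10, 7, 8, 8] 16 4 true)) (.node (.leaf [3] 3 0 false) (.leaf [3, 8, 5, 11, 7, 9, 5] 35 4 true))) (.node (.node (.leaf [0, 5, 2, 2, 3, 0] 60 1 false) (.leaf [7, 11, 6, 10, 11] 21 2 true)) (.node (.leaf [7, 4, 3, 6, 11, 9] 32 0 false) (.leaf [10] 10 0 false))))))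
noncomputable def r7 : TC.WTr := (.node (.node (.node (.node (.node (.node (.leaf [5, 10, 9, 5, 1, 7, 1] 49 3 false) (.leaf [3, 1, 6, 9, 5, 10, 1] 55 1 false)) (.leaf [4] 4 1 false)) (.node (.leaf [8, 3, 8] 28 0 false) (.leaf [3, 11, 3, 9, 11] 29 5 false))) (.node (.node (.leaf [5, 11, 4, 2, 11] 46 2 false) (.leaf [8, 4, 4, 10, 6, 8, 4] 37 1 false)) (.node (.leaf [0, 2, 3, 5, 11, 3, 6, 2] 54 6 true) (.leaf [1, 5, 10, 4, 2] 47 1 false)))) (.node (.node (.node (.leaf [2] 1 0 false) (.leaf [10, 9, 7, 9, 9] 16 4 false)) (.node (.leaf [3] 3 0 false) (.leaf [9, 6, 10, 9, 7] 16 2 false))) (.node (.node (.leaf [8, 8, 10, 4, 6, 2, 5, 3] 53 3 false) (.leaf [6] 6 1 false)) (.node (.leaf [2, 2, 3, 0, 2, 0] 60 3 false) (.leaf [4, 6, 10, 11, 5, 3, 5] 34 6 true))))) (.node (.node (.node (.node (.node (.leaf [1, 0, 3, 1, 1, 4] 60 4 true) (.leaf [6, 9, 7, 0, 1, 10, 2, 0] 58 5 false)) (.leaf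 [4, 4, 6, 4, 4] 31 2 false)) (.node (.leaf [5, 3, 5, 5, 7, 3, 4] 24 2 false) (.leaf [8] 8 1 false))) (.node (.node (.leaf [0, 6, 10, 7, 0, 1, 11] 52 3 false) (.leaf [9, 9, 6, 10, 9] 16 1 false)) (.node (.leaf [3, 6, 11, 9, 5, 7] 32 2 false) (.leaf [7, 11, 6, 9, 11] 21 5 false)))) (.node (.node (.node (.leaf [5, 0, 9, 10, 3, 0, 4, 6] 61 3 false) (.leaf [7] 6 0 false)) (.node (.leaf [4, 10, 6, 8, 4, 7, 8] 37 3 false) (.leaf [0, 8, 10, 7, 0, 7, 9] 50 3 false))) (.node (.node (.leaf [1] 1 1 false) (.leaf [5, 11, 7, 9, 5, 9, 3] 35 6 true)) (.node (.leaf [7, 5, 5, 7, 5] 31 2 true) (.leaf [2, 0, 6, 10, 7, 0, 1] 52 2 false))))))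
noncomputable def tS : Tr := (.leaf (nat_lit 0x1fff4c71f5d88c88754dac51fbac267172f1e07611dfff8471e6cf3f79724c166c37f5bc3ce1a54eda68b7ffd88ceee08db2757a29c25203a395e0ad540e3bb7ffe69775f3a5023497a70fba5dd2e1c679f3881e87fff36b2f8cfbea8c460abd1ddaeed5a3b4dc234b12fffa91548a7cd507a75d24099b4f804612608940e27ffd91ceb96c3be656fcb38685b1f167ce8a61e845bffe115771b88dddaf9379f20bc66efe67e43bb5d25fff71c84556cac256c8b851dce98b5b438c91ace2efff87d03e8a686472759a6eb28749c0f6132115774fffd514c3155fac592e49e14492a75430ac230c02ffffe67d05f363da54a186f49d91670b9864ba83d5c1fff37a98552f20be4ca24fcf82b373f4a8d541a9d1fffba4de7c6ba6f30e2417ceee51a3e651e24346657ffd1d0c3a3b71db51c8a8905f21cd0807105de31c3ffecec7ccb3a458c1be05ea6151d8a7c4122a153cdfff51731116f80bc6c9b0a4edcb825bf32fdb30c23fffa8e54720bc559ae616fcb9343525855b6eea50c7ffd3eaa6745badf95bc93d5c94110178a835422b57ffe0bb53f2bc1468b9d1c5a4313109bd5e4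0c45623fff4f0a8d85b60bb5201f24c361be4b1a5c9bd2a94fffaba93849d16f58da41769ed1b52a087889e948b7ffd3a895d5462a0d5cca8d54928bd3b8f4405dac7fffea175f4be651a49bd4af27594f8b0b4bb1efc177fff29b94dd10a84850a261d3c40ba74da8a8f92de9fff82e057e7dd489a77478a7c93bf28d1176a8e4c17ffc57e0b847b20cd0ba77e1cf88acfb6ae53599e23ffe98539902e11723e84cfaa253cc165571266d617fff547a0a94688de1e202e17c682c3c40fb95c4830fff9f687bcd913ba8c447dc6d244d28d4170d9b313fffcee297b3b382dc99ea454b79c78cf26b8468a773ffe80d05b22e4448c8d520a335466a7e4bead1d66ffff434a13166e0b65f12fb510a86f5f1a50d3ba7bdfffa8d15c226319e89cc16ccec575a8ac82e51c45a7ffce927db1332f8d384c4664e8dc416c8c72b8058bffe185117b255d2831320ba8cd410ae505b24b0badfff26b1359268a353999c24fbc70c33b02d4e1ca3efff9ac525a5753bd25ed24c0b4357219d25a975646fffcdda5cc3319f143029f25f91a19230e9805a21c7ffe2d516aa4653d2e980eb8a347f481705a3e4cd0dfff3929b40fa48703de8980e0487148d02c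d124d3afff9740d9e57b2931894cf426449611a4e2a4b8059fffd0ec0b1303a11caf45cf3908898db480a4ef2e23ffe8cc40882c44f699b2989808c3a3264e830d4e3dfff3b9a2f05a21cd4101f2c4fa6ce0588c7189060afff9838c5073030819d8c426062af9b5016261f6727ffceb47631441d7107094147420ccd6883449b82c7ffe7cb0581c4cba851f2d61e10b6061f2e624a4d9bfff28f947c44c20428115d504845a058227c4be8d0fff9f648bc8ce3de8568d7a6784eba3391800b06cdfffcb80f423be25e5bd2a9441619a952a0b059fa793ffe9de51aae512d8a485142570d1e8d02c1b234161fff0578b193847e91050b6c6da7e715e175ca042bbfff887015e7e954aae7928e3d9138a1e90c62d04c5fffc4e431d1a102bc86ea87163a1017d669943806a3ffe1a779f82bd48236021a239457e24f61d10ed735fff46b2b8930e1a640528cc15e2ad51ba0d4ef2ae1fff9870d2e1a55f58f6062661c1e382bc348484126fffcd548753b89dcc36c824300181d1a22bb057a0b3ffe65643b2a68fb271c32a8584b581a354a24c815ffff1600c5462a2c010682b87ccd962688af496c407fff8a346709304410c387cc31a057278552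67940d17ffc3421a02e61d006da3830571fb15ba19f460ae0fffe8823e4816127216712188f931a9e43bf0c54293fff2e6052028e6d20a30e245761451398e4cd0a058fff815c41cb3816d051037c77e18884084ae31718efffc2c80570a185093bc7bf4e9242028252643ba4abffe1404ef84fc0ae13e1b4a5785a61e209e8434279fff0dd89980ae2db3bf237027691838f91a4d5e677fff843821c20d13106b44d65cc02b9154e661081d7fffc27413938f84e026e31a10004080ae16509b076fffe72826484d4cf22d410c16fc3845b202b8818abbfff38f84d02661ac09909cc2045cc0988b30260057fff896c0ac35b1d78acc61057522c8c18e1212f234fffc3fe10702b042021215e39404b82b812d096095fffe2070d9057861010702b1328ef42b30b184ac255fff15985786ba10002b057480e6780d9898035840bfff984c25210509415d499456902b049cae0126092fffce2612413b856cd7a1cc02b19a42461220908483ffe11f08f04742381ac0808c6423611a08c8158231fff081840c4ae20208b858c22c1152058158576208fff82b415a20a05f82b02b21620b0059c40c00005f7ffc17a0bc05d82e82b210205c898417000005b82dbffe1b305a85701680b305902c41600ab05782b8001fff0000000000000000000000000000001600ae056))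
noncomputable def tJ : Tr := (.leaf (nat_lit 0x49348e49011404d5602c08460831c735034140c24051074051129508e5922003d239b38d20d2002c004004a4d40400000046c80c04d114b4c80c060924400049048049011404d55c2c074608000a3503802cc28025d19224000f3c018004004101404101000074000048001301010004c4a128015845224040e00018020000f39800f2122002ce1800002000980130000101402ce1cb2c560700630f1800000110a33c038248e2003c03a200d20d20000324030b89000e0030800000c000b3c00000008884442c080600f00735034140020034b3a000d39220051118000d2000a00110024ca04004100000700418080800000f00e48c10000b3a010018530044b0210003512c06c608300a35000a34c28001b0003c000e00018b24040b6c900000008000418000034009b00f2c200408024c00030000021b0092003c025a38020d2002c028015800c0002800000002003804180000000000c318000020009800524228a0c000b1403400056092440800820003001c00182090800820004030061220801402cb1cb00984c28020004000a0c004000b0008480800822c00000001211c008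008200430318001e0000003480082c02c00471de28015c1802800090060002400087090002882000000c030000800800a70000608000018000500601c0000000090000040000403dc28001d0c02400001c50070c018500700028574014004000100020200024074008028028008018001d00100044000a0000000400dd2c06460001c014000004428025900800000400818020000001900000000018024000065500000300000014000000000064200000d0c00000000842406400000401880800401c000464000000000000710000001918020700609a00000200310018000d18001a0000001400001000006803000002400006401400000000000002c00000001001403192c06860000000001010002801da00000330400000020000001a00000000010024000068000000b0031801001850c000001a0000c20c00001400050c168000008000000000010019a08500028000400008700001a2801580001002000000002400036020c00000800001801040030980000c00001c00000816000400000401001800400861980000001400000000006000000000400000000010000006000800820050030000580010400410000420000006000800000000000000180000000c00000000000400180005d75d75d75d75c0000))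
noncomputable def tQ : Tr := (.leaf (nat_lit 0x0))
noncomputable def tR : TC.WTr := (.node (.node (.node r0 r1) (.node r2 r3)) (.node (.node r4 r5) (.node r6 r7)))
def hl : List ℕ := [3, 4, 5, 5, 4, 6, 7, 7, 6, 8, 9, 9, 8, 10, 11]
def B : List (List ℕ) := [[0, 0], [1, 2], [2, 1], [3, 3], [4, 5], [5, 4], [6, 7], [7, 6], [8, 9], [9, 8], [10, 10], [11, 11], [10, 11, 10, 11], [10, 11, 10, 11], [6, 6, 6], [8, 8, 8, 8, 8], [9, 7, 9, 9, 6, 10], [9, 9, 7, 8, 6, 9, 11], [6, 8, 6, 8, 6, 8, 6, 8, 6, 8, 6, 8], [6, 8, 7, 9, 6, 8, 7, 9, 6, 8, 7, 9, 6, 8, 7, 9, 6, 8, 7, 9], [6, 9, 6, 9, 6, 9, 6, 9, 6, 9, 6, 9, 6, 9, 6, 9, 6, 9, 6, 9, 6, 9, 6, 9, 6, 9, 6, 9, 6, 9], [7, 11, 6, 9, 11, 10], [6, 11, 7, 8, 11, 10], [4, 4, 4, 4, 4, 4], [3, 4, 3, 5, 3, 5, 5, 7], [5, 5, 5, 3, 5, 3, 4, 9], [3, 4, 3, 4, 3, 4, 3, 4, 3, 4, 3, 4, 3, 4, 3, 4, 3, 4, 3, 4, 3, 4, 3, 4, 3, 4, 3, 4, 3, 4], [3, 5, 3, 5, 3, 5,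 3, 5, 3, 5, 3, 5, 3, 5, 3, 5, 3, 5, 3, 5, 3, 5, 3, 5, 3, 5, 3, 5, 3, 5], [3, 8, 3, 8], [3, 11, 3, 9, 11, 8], [4, 9, 7, 4, 9, 7], [4, 4, 6, 4, 4, 6], [5, 7, 4, 3, 6, 11, 9], [4, 11, 4, 11, 4, 11], [5, 10, 4, 3, 4, 11, 10, 7], [4, 9, 3, 8, 4, 8, 6, 11], [5, 9, 11, 8, 4, 6, 11, 7], [4, 7, 8, 4, 4, 10, 6, 8], [5, 9, 6, 9, 5, 9, 6, 9], [5, 3, 10, 3, 4, 6, 10, 7], [1, 1, 1, 1, 1], [0, 1, 0, 2, 2, 0, 1, 1, 0, 2, 3], [2, 0, 2, 2, 0, 1, 1, 0, 2, 2, 0, 5], [0, 1, 0, 2, 0, 1, 0, 2], [2, 7, 2, 7], [0, 3, 0, 3], [2, 11, 1, 5, 11, 4], [2, 10, 1, 5, 10, 4], [0, 6, 8, 0, 6, 4, 9, 4], [1, 7, 1, 0, 5, 10, 9, 5], [0, 7, 9, 9, 0, 8, 10, 7], [0, 8, 7, 9, 0, 8, 6, 9], [0, 1, 11, 2, 0, 6, 10, 7], [2, 5, 3, 2, 8, 8, 10, 4, 6], [1, 0, 5, 1, 7, 3, 11, 4, 3], [1, 11, 3, 1, 6, 9, 5, 10], [0, 4, 8, 4, 0, 10, 8, 5, 10], [1, 9, 1, 3, 2, 9, 4, 7, 3], [0, 1, 10, 2, 0, 11, 6, 9, 7], [0, 7, 2, 4, 2, 11, 10, 4,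 6, 3], [0, 2, 0, 5, 2, 2, 3], [0, 4, 6, 1, 5, 0, 9, 10, 3]]
def subs : List (List ℕ) := [[3], [4], [5], [6], [7], [8], [9], [10], [11]]
def ex : List (List ℕ) := []
def inv (x : ℕ) : ℕ := [0, 2, 1, 3, 5, 4, 7, 6, 9, 8, 10, 11].getD x 0
noncomputable def rS : ℕ → ℕ := rowOf tS (nat_lit 7) (nat_lit 127) (nat_lit 169) (nat_lit 748288838313422294120286634350736906063837462003711)
noncomputable def rJ : ℕ → ℕ := rowOf tJ (nat_lit 7) (nat_lit 127) (nat_lit 84) (nat_lit 19342813113834066795298815)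
noncomputable def C : TC.Cfg where
  S := look rS (nat_lit 13) (nat_lit 8191)
  J := look rJ (nat_lit 6) (nat_lit 63)
  Q := lookQ tQ (nat_lit 7) (nat_lit 1) (nat_lit 1)
  R := tR.get
  hl := fun x => hl.contains x
  n := (nat_lit 85)
  M := (nat_lit 85)
  top := (nat_lit 4250)
  nl := (nat_lit 12)
  need := (nat_lit 12)
  nr := (nat_lit 23)
theorem k0 : TC.chkRange C 0 2 = true := by decide +kernel
theorem rows0 : ∀ c < (0 + 2) * 64, c < C.M → TC.chkRow C c = true :=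
  TC.rows_step (TC.rows_zero C) k0
theorem main {G : Type*} [Group G] (g : ℕ → G) (hB : ∀ r ∈ B, ev g r = 1) (H : Subgroup G)
    (hH : ∀ w ∈ subs, ev g w ∈ H) :
    H.relIndex (Subgroup.closure (g '' {x | x < 12})) ≠ 0 ∧
      H.relIndex (Subgroup.closure (g '' {x | x < 12})) ≤ 85 :=
  TC.index_le C B subs ex inv hl tR.hint rfl (by decide +kernel) (by decide +kernel)
    (TC.rows_done rows0 (by decide +kernel)) g hB H hH
end H0.TCS440
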